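import Cfsg.Agent.FGS2.He.Basic
import Cfsg.Agent.FGS2.He.Data

/-!
Given the order of the Held group, four base points separate its elements.
-/

set_option autoImplicit false
set_option maxRecDepth 100000

namespace Cfsg.Agent.FGS2.He

open Cfsg.Agent.Screen.CosetEnum

local notation "Q" => Cfsg.Spor.He

theorem level0_ok : levelOK [] 0 2058 hGens0 hChain0 = true := by decide +kernel

theorem level1_ok : levelOK [0] 1 1360 hGens1 hChain1 = true := by decide +kernel

theorem level2_ok : levelOK [0, 1] 180 360 hGens2 hChain2 = true := by decide +kernel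

theorem level3_ok : levelOK [0, 1, 180] 2 4 hGens3 hChain3 = true := by decide +kernel

/-- The base. -/
def base : List ℕ := [0, 1, 180, 2]

theorem base_inj (hcard : Nat.card Q = 4030387200) (g h : Q)
    (e : ∀ c : Pt, (c : ℕ) ∈ base → rep g c = rep h c) : g = h := by
  obtain ⟨s0, h0, t0, -, i0⟩ := level_spec level0_ok
  obtain ⟨s1, h1, t1, f1, i1⟩ := level_spec level1_ok
  obtain ⟨s2, h2, t2, f2, i2⟩ := level_spec level2_ok
  obtain ⟨s3, h3, t3, f3, i3⟩ := level_spec level3_ok
  haveI : Finite Q := Nat.finite_of_card_ne_zero (by rw [hcard]; norm_num)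
  let φ : Fin 2058 × Fin 1360 × Fin 360 × Fin 4 → Q := fun x => t0 x.1 * (t1 x.2.1 * (t2 x.2.2.1 * t3 x.2.2.2))
  let κ : Q → Pt × Pt × Pt × Pt := fun g => (rep g s0, rep g s1, rep g s2, rep g s3)
  have a10 : ∀ i, rep (t1 i) s0 = s0 := fun i => f1 i s0 (by rw [h0]; decide)
  have a20 : ∀ i, rep (t2 i) s0 = s0 := fun i => f2 i s0 (by rw [h0]; decide)
  have a21 : ∀ i, rep (t2 i) s1 = s1 := fun i => f2 i s1 (by rw [h1]; decide)
  have a30 : ∀ i, rep (t3 i) s0 = s0 := fun i => f3 i s0 (by rw [h0]; decide)
  have a31 : ∀ i, rep (t3 i) s1 = s1 := fun i => f3 i s1 (by rw [h1]; decide)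
  have a32 : ∀ i, rep (t3 i) s2 = s2 := fun i => f3 i s2 (by rw [h2]; decide)
  have hκ : Function.Injective (κ ∘ φ) := by
    rintro ⟨a, b, c, d⟩ ⟨a', b', c', d'⟩ he
    simp only [Function.comp_apply, κ, φ, Prod.mk.injEq, map_mul, Equiv.Perm.mul_apply,
      a10, a20, a21, a30, a31, a32] at he
    obtain ⟨e0, e1, e2, e3⟩ := he
    obtain rfl := i0 e0
    obtain rfl := i1 ((rep (t0 a)).injective e1)
    obtain rfl := i2 ((rep (t1 b)).injective ((rep (t0 a)).injective e2))
    obtain rfl := i3 ((rep (t2 c)).injective ((rep (t1 b)).injective ((rep (t0 a)).injective e3)))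
    rfl
  have hφ : Function.Surjective φ := by
    refine ((Nat.bijective_iff_injective_and_card φ).2 ⟨fun x y hxy => hκ (congrArg κ hxy), ?_⟩).2
    simp only [Nat.card_prod, Nat.card_fin, hcard]
  obtain ⟨x, rfl⟩ := hφ g
  obtain ⟨y, rfl⟩ := hφ h
  rw [hκ (show κ (φ x) = κ (φ y) by
    simp only [κ, e s0 (by rw [h0]; decide), e s1 (by rw [h1]; decide), e s2 (by rw [h2]; decide),
      e s3 (by rw [h3]; decide)])]

/-- Equality of two words at the base. -/
def eqB (u w : List ℕ) : Bool := lOK u && lOK w && base.all fun c => Nat.beq (act u c) (act w c)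

/-- Difference of two words at some point of the base. -/
def neB (u w : List ℕ) : Bool := lOK u && lOK w && base.any fun c => !(Nat.beq (act u c) (act w c))

theorem kE_eq (hcard : Nat.card Q = 4030387200) {u w : List ℕ} (h : eqB u w = true) : kE u = kE w := by
  simp only [eqB, Bool.and_eq_true, List.all_eq_true] at h
  refine base_inj hcard _ _ fun c hc => Fin.ext ?_
  rw [act_spec (by simpa [lOK] using h.1.1), act_spec (by simpa [lOK] using h.1.2)]
  exact Nat.eq_of_beq_eq_true (h.2 _ hc)

theorem kE_one (hcard : Nat.card Q = 4030387200) {w : List ℕ} (h : eqB w [] = true) : kE w = 1 := by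
  rw [kE_eq hcard h, kE_nil]

theorem kE_ne {u w : List ℕ} (h : neB u w = true) : kE u ≠ kE w := by
  simp only [neB, Bool.and_eq_true, List.any_eq_true] at h
  obtain ⟨⟨hu, hw⟩, c, hc, hne⟩ := h
  intro e
  have hlt : c < HeS44.tbl.n := by
    rcases List.mem_cons.1 hc with rfl | hc
    · decide
    simp only [List.mem_cons, List.not_mem_nil, or_false] at hc
    rcases hc with rfl | rfl | rfl <;> decide
  have h1 := act_spec hu ⟨c, hlt⟩
  rw [e, act_spec hw ⟨c, hlt⟩] at h1
  rw [show Nat.beq (act u c) (act w c) = true by rw [h1]; exact Nat.beq_refl _] at hne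
  exact Bool.false_ne_true hne

/-- The set is closed under a word. -/
def stableGo (S : ℕ) (w : List ℕ) : ℕ → Bool
  | 0 => true
  | c + 1 => (bif bit S c then bit S (act w c) else true) && stableGo S w c

theorem stableGo_spec {S : ℕ} {w : List ℕ} : ∀ {k}, stableGo S w k = true → ∀ c < k, bit S c = true →
    bit S (act w c) = true
  | 0, _, c, hc => absurd hc (Nat.not_lt_zero c)
  | k + 1, h, c, hc => by
    simp only [stableGo, Bool.and_eq_true] at h
    rcases Nat.lt_or_ge c k with hc' | hc'
    · exact stableGo_spec h.2 c hc'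
    · obtain rfl : c = k := by omega
      intro hb
      rw [hb, cond_true] at h
      exact h.1

/-- An element moving a point out of a stable set is outside the group generated by the stabilizing words. -/
theorem not_mem_of_stable [Finite Q] {S x : ℕ} {e : List ℕ} {gs : List (List ℕ)}
    (hgs : ∀ w ∈ gs, lOK w = true ∧ stableGo S w 2058 = true) (he : lOK e = true) (hx : x < 2058)
    (hS : bit S x = true) (hout : bit S (act e x) = false) :
    kE e ∉ Subgroup.closure {g : Q | ∃ w ∈ gs, kE w = g} := by
  intro hm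
  have key : ∀ g ∈ Subgroup.closure {g : Q | ∃ w ∈ gs, kE w = g}, ∀ c : Pt, bit S c = true →
      bit S (rep g c : Pt) = true := by
    intro g hg
    induction hg using Subgroup.closure_induction with
    | mem y hy =>
      obtain ⟨w, hw, rfl⟩ := hy
      intro c hc
      rw [act_spec (hgs w hw).1]
      exact stableGo_spec (hgs w hw).2 c c.isLt hc
    | one => intro c hc; simpa using hc
    | mul a b _ _ ha hb => intro c hc; rw [map_mul, Equiv.Perm.mul_apply]; exact ha _ (hb c hc)
    | inv a _ ha =>
      intro c hc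
      let σ : {c : Pt // bit S c = true} → {c : Pt // bit S c = true} := fun c => ⟨rep a c.1, ha c.1 c.2⟩
      have hσ : Function.Injective σ := fun u v huv =>
        Subtype.ext ((rep a).injective (congrArg Subtype.val huv))
      obtain ⟨d, hd⟩ := (Finite.injective_iff_surjective.1 hσ) ⟨c, hc⟩
      have hd' : rep a d.1 = c := congrArg Subtype.val hd
      rw [map_inv, show (rep a)⁻¹ c = d.1 by rw [Equiv.Perm.inv_eq_iff_eq, hd']]
      exact d.2
  have h := key _ hm ⟨x, hx⟩ hS
  rw [act_spec he] at h
  rw [h] at hout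
  exact Bool.false_ne_true hout.symm

end Cfsg.Agent.FGS2.He
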