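import Cfsg.Agent.Screen.CosetEnum.PresHe
import Cfsg.Agent.Screen.CosetEnum.HeS44.Checked
import Cfsg.Agent.Screen.CosetEnum.Orbit

/-!
Words in the presented Held group acting on 2058 cosets: equality of words is tested on a base of four points,
given the order of the group.
-/

set_option autoImplicit false
set_option maxRecDepth 100000

namespace Cfsg.Agent.FGS2.He

open Cfsg.Agent.Screen.CosetEnum

local notation "Q" => Cfsg.Spor.He
abbrev Pt := Fin HeS44.tbl.n

theorem exists_rep : ∃ f : Q →* Equiv.Perm (Pt), ∀ x < 7, f (PresHe.gens x) = HeS44.checked.perm x :=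
  PresHe.exists_hom HeS44.checked.perm (fun x => HeS44.checked.perm_sq x) HeS44.checked.perm_rel

/-- The action on the cosets. -/
noncomputable def rep : Q →* Equiv.Perm (Pt) := exists_rep.choose

theorem rep_gens (x : ℕ) (hx : x < 7) : rep (PresHe.gens x) = HeS44.checked.perm x := exists_rep.choose_spec x hx

/-- The element of a word. -/
noncomputable def kE (w : List ℕ) : Q := evalW PresHe.gens w.reverse

theorem kE_nil : kE [] = 1 := rfl

theorem kE_append (u w : List ℕ) : kE (u ++ w) = kE u * kE w := by
  rw [kE, List.reverse_append, evalW_append]; rfl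

theorem kE_rep (w : List ℕ) : ∀ i : ℕ, kE (List.replicate i w).flatten = kE w ^ i
  | 0 => by rw [pow_zero]; exact kE_nil
  | i + 1 => by rw [List.replicate_succ, List.flatten_cons, kE_append, kE_rep w i, pow_succ']

/-- All letters are generators. -/
def lOK (w : List ℕ) : Bool := w.all fun x => Nat.blt x 7

/-- A word on a point. -/
def act (w : List ℕ) (c : ℕ) : ℕ := HeS44.tbl.app w.reverse c

theorem act_spec {w : List ℕ} (hw : lOK w = true) (c : Pt) : ((rep (kE w) c : Pt) : ℕ) = act w c := by
  have hl : ∀ x ∈ w.reverse, x < 7 := fun x hx => by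
    simpa [Nat.blt_eq] using List.all_eq_true.1 hw x (List.mem_reverse.1 hx)
  have hf : ∀ v : List ℕ, (∀ x ∈ v, x < 7) → rep (evalW PresHe.gens v) = evalW HeS44.checked.perm v := by
    intro v
    induction v with
    | nil => simp [evalW]
    | cons a v ih =>
      intro hv
      rw [evalW, evalW, map_mul, ih fun x hx => hv x (List.mem_cons_of_mem _ hx),
        rep_gens a (hv a List.mem_cons_self)]
  rw [kE, hf _ hl, HeS44.checked.app_eq _ hl]
  rfl

/-- The bit set reached along a chain of coded steps (earlier point times sixteen plus generator). -/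
def chainC (gs : List (List ℕ)) : List ℕ → ℕ → Option ℕ
  | [], s => some s
  | k :: l, s =>
    bif bit s (k / 16) && Nat.blt (k / 16) 2058 && Nat.blt (k % 16) gs.length then
      force (addBit s (act (gs.getD (k % 16) []) (k / 16))) fun s' => chainC gs l s'
    else none

/-- The check of one level of the base. -/
def levelOK (pre : List ℕ) (start size : ℕ) (gs : List (List ℕ)) (l : List ℕ) : Bool :=
  Nat.blt start 2058 && gs.all (fun g => lOK g && pre.all fun c => Nat.blt c 2058 && Nat.beq (act g c) c) &&
    (chainC gs l (addBit 0 start)).any fun s => Nat.beq (countAll s 2058 9) size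

theorem bit_single (s c : ℕ) : bit (addBit 0 s) c = true ↔ c = s := by
  rw [bit_addBit, bit_eq, Nat.zero_testBit, Bool.false_or, decide_eq_true_iff, eq_comm]

/-- A level gives as many elements fixing the earlier points as the orbit has points. -/
theorem level_spec {pre : List ℕ} {start size : ℕ} {gs : List (List ℕ)} {l : List ℕ}
    (h : levelOK pre start size gs l = true) :
    ∃ s : Pt, (s : ℕ) = start ∧ ∃ t : Fin size → Q,
      (∀ i, ∀ c : Pt, (c : ℕ) ∈ pre → rep (t i) c = c) ∧ Function.Injective fun i => rep (t i) s := by
  simp only [levelOK, Bool.and_eq_true, Nat.blt_eq] at h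
  obtain ⟨⟨hst, hgs⟩, hch⟩ := h
  have hgs' := List.all_eq_true.1 hgs
  refine ⟨⟨start, hst⟩, rfl, ?_⟩
  set P : ℕ → Prop := fun c => ∃ g : Q, (∀ d : Pt, (d : ℕ) ∈ pre → rep g d = d) ∧
    ((rep g ⟨start, hst⟩ : Pt) : ℕ) = c with hP
  have key : ∀ (l : List ℕ) (s s' : ℕ), chainC gs l s = some s' → (∀ c, bit s c = true → P c) →
      ∀ c, bit s' c = true → P c := by
    intro l
    induction l with
    | nil => intro s s' h hs; simp only [chainC, Option.some.injEq] at h; exact h ▸ hs
    | cons k l ih =>
      intro s s' h hs
      unfold chainC at h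
      simp only [force_eq] at h
      cases hb : (bit s (k / 16) && Nat.blt (k / 16) 2058 && Nat.blt (k % 16) gs.length) with
      | false => simp [hb] at h
      | true =>
        simp only [hb, cond_true] at h
        simp only [Bool.and_eq_true, Nat.blt_eq] at hb
        refine ih _ _ h fun c hc => ?_
        rw [bit_addBit, Bool.or_eq_true, decide_eq_true_iff] at hc
        rcases hc with hc | rfl
        · exact hs c hc
        obtain ⟨g, hg, hgc⟩ := hs _ hb.1.1
        rw [List.getD_eq_getElem _ _ hb.2]
        set w := gs[k % 16]'hb.2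
        have hw := hgs' w (List.getElem_mem _)
        simp only [Bool.and_eq_true, List.all_eq_true, Nat.blt_eq] at hw
        refine ⟨kE w * g, fun d hd => ?_, ?_⟩
        · rw [map_mul, Equiv.Perm.mul_apply, hg d hd]
          exact Fin.ext (by rw [act_spec hw.1]; exact Nat.eq_of_beq_eq_true (hw.2 _ hd).2)
        · rw [map_mul, Equiv.Perm.mul_apply, act_spec hw.1, hgc]
  cases hc : chainC gs l (addBit 0 start) with
  | none => rw [hc] at hch; simp at hch
  | some S =>
    rw [hc] at hch
    have hcount : countAll S 2058 9 = size := by simpa using hch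
    rw [countAll_eq, countGo_eq, show Nat.min 2058 (256 * 9) = 2058 from rfl] at hcount
    have hall : ∀ c, bit S c = true → P c := key l _ _ hc fun c hcs => by
      obtain rfl := (bit_single start c).1 hcs
      exact ⟨1, fun d _ => by simp, by simp⟩
    set F := (Finset.range 2058).filter fun c => bit S c = true
    have e : Fin size ≃ F := (Fintype.equivFinOfCardEq (by rw [Fintype.card_coe]; exact hcount)).symm
    choose t ht using fun x : F => hall x.1 (Finset.mem_filter.1 x.2).2
    refine ⟨fun i => t (e i), fun i c hcp => (ht (e i)).1 c hcp, fun i j hij => e.injective (Subtype.ext ?_)⟩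
    rw [← (ht (e i)).2, ← (ht (e j)).2]
    exact congrArg Fin.val hij

end Cfsg.Agent.FGS2.He
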